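import Cfsg.Agent.Helper79.BRV
import Cfsg.Agent.Lib.Cores

set_option autoImplicit false
set_option linter.style.haveILetI false
set_option linter.unusedSectionVars false
set_option linter.unusedVariables false

/-!
Piece (F5) of helper42's plan for S4700 (Brauer 1943, general form): a character of degree `p - 1`
with value `-1` on `(P \ 1) C_G(P)_{p'}` in a group with `O_{p'}(G) = 1` forces `C_G(P) = P`.
(As `Helper79.BR.cent_eq_of_char`, with `O_{p'}(G) = 1` instead of simplicity.)
-/

namespace Cfsg.Agent.Helper79.B43c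

open Cfsg Cfsg.Agent.Helper74 Cfsg.Agent.Helper79.BR
open scoped ComplexConjugate

universe u

variable {G : Type u} [Group G] [Fintype G] {p : ℕ} [Fact p.Prime] (P : Sylow p G)

/-- a normal subgroup meeting a Sylow `p`-subgroup trivially has order prime to `p` -/
theorem coprime_card_of_inf_sylow_eq_bot (K : Subgroup G) [K.Normal]
    (hK : ∀ x : G, x ∈ (P : Subgroup G) → x ∈ K → x = 1) : (Nat.card K).Coprime p := by
  have hp : p.Prime := Fact.out
  rw [Nat.coprime_comm, hp.coprime_iff_not_dvd]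
  intro hdvd
  obtain ⟨z, hz⟩ := exists_prime_orderOf_dvd_card' p hdvd
  have hzo : orderOf (z : G) = p := by rw [Subgroup.orderOf_coe, hz]
  have hzp : IsPGroup p ↥(Subgroup.zpowers (z : G)) := by
    refine IsPGroup.of_card (n := 1) ?_
    rw [Nat.card_zpowers, hzo, pow_one]
  obtain ⟨Q, hQ⟩ := hzp.exists_le_sylow
  obtain ⟨g, hg⟩ := MulAction.exists_smul_eq G Q P
  have hzQ : (z : G) ∈ (Q : Subgroup G) := hQ (Subgroup.mem_zpowers _)
  have hmem : g * (z : G) * g⁻¹ ∈ (P : Subgroup G) := by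
    rw [← hg, Sylow.coe_subgroup_smul]
    have := Subgroup.smul_mem_pointwise_smul (z : G) (MulAut.conj g) (Q : Subgroup G) hzQ
    rwa [MulAut.smul_def, MulAut.conj_apply] at this
  have hmemK : g * (z : G) * g⁻¹ ∈ K := Subgroup.Normal.conj_mem inferInstance _ z.2 g
  have h1 := hK _ hmem hmemK
  have hz1 : (z : G) = 1 := by
    have h2 : g * (z : G) = g := by
      have := congrArg (· * g) h1
      simpa using this
    exact mul_left_cancel (a := g) (by rw [h2, mul_one])
  rw [hz1, orderOf_one] at hzo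
  exact hp.one_lt.ne' hzo.symm

/-- (F5) the kernel argument -/
theorem cen_eq_of_char (hP : Nat.card P = p) (hcore : Cfsg.pPrimeCore p G = ⊥)
    (χ : IrrCharacter G) (hdeg : (χ : G → ℂ) 1 = ((p - 1 : ℕ) : ℂ))
    (hval : ∀ x : G, x ∈ (P : Subgroup G) → x ≠ 1 → ∀ y : G,
      y ∈ Subgroup.centralizer ((P : Subgroup G) : Set G) → ¬ p ∣ orderOf y →
      (χ : G → ℂ) (x * y) = -1) :
    Subgroup.centralizer ((P : Subgroup G) : Set G) = (P : Subgroup G) := by
  classical
  have hp : p.Prime := Fact.out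
  have hχc : IsCharacter G (χ : G → ℂ) := irr_isCharacter χ
  have hpc : ((p - 1 : ℕ) : ℂ) = (p : ℂ) - 1 := Nat.cast_pred hp.pos
  have hreg1 : ¬ p ∣ orderOf (1 : G) := by
    rw [orderOf_one]
    exact hp.one_lt.ne' ∘ Nat.dvd_one.mp
  have hone_mem : (1 : G) ∈ Subgroup.centralizer ((P : Subgroup G) : Set G) := Subgroup.one_mem _
  -- values on `P \ 1`
  have hvalP : ∀ x : G, x ∈ (P : Subgroup G) → x ≠ 1 → (χ : G → ℂ) x = -1 := by
    intro x hx hx1
    have := hval x hx hx1 1 hone_mem hreg1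
    rwa [mul_one] at this
  -- the sum over `P` vanishes
  have hsum0 : ∑ᶠ x : (P : Subgroup G), (χ : G → ℂ) (x : G) = 0 := by
    rw [finsum_sylow_of_const P hP (χ : G → ℂ) (-1) hvalP, hdeg, hpc]
    ring
  -- `p`-regular elements of the centralizer lie in the kernel
  have hker : ∀ y : G, y ∈ Subgroup.centralizer ((P : Subgroup G) : Set G) → ¬ p ∣ orderOf y →
      (χ : G → ℂ) y = (χ : G → ℂ) 1 := by
    intro y hy hyreg
    obtain ⟨n, ρ, hρ⟩ := hχc
    have h0 := finsum_character_mul_eq_zero ρ (P : Subgroup G) (by rw [hρ]; exact hsum0) y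
    rw [hρ] at h0
    rw [finsum_sylow_of_const P hP (fun x => (χ : G → ℂ) (x * y)) (-1)
      (fun x hx hx1 => hval x hx hx1 y hy hyreg)] at h0
    rw [one_mul] at h0
    rw [hdeg, hpc]
    linear_combination h0
  -- the kernel is trivial
  have hK : Cfsg.Agent.Helper80.kerChar (χ : G → ℂ) hχc = ⊥ := by
    haveI : (Cfsg.Agent.Helper80.kerChar (χ : G → ℂ) hχc).Normal :=
      Cfsg.Agent.Helper80.kerChar_normal (χ : G → ℂ) hχc
    have hcop : (Nat.card (Cfsg.Agent.Helper80.kerChar (χ : G → ℂ) hχc)).Coprime p := by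
      refine coprime_card_of_inf_sylow_eq_bot P _ (fun x hx hxk => ?_)
      by_contra hx1
      rw [Cfsg.Agent.Helper80.mem_kerChar, hvalP x hx hx1, hdeg, hpc] at hxk
      have h2 : (p : ℂ) = 0 := by linear_combination -hxk
      exact hp.ne_zero (by exact_mod_cast h2)
    have hle := Cfsg.Agent.Lib.le_pPrimeCore
      (Cfsg.Agent.Helper80.kerChar_normal (χ : G → ℂ) hχc) hcop
    rw [hcore] at hle
    exact le_bot_iff.mp hle
  have hreg_triv : ∀ y : G, y ∈ Subgroup.centralizer ((P : Subgroup G) : Set G) → ¬ p ∣ orderOf y →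
      y = 1 := by
    intro y hy hyreg
    have : y ∈ Cfsg.Agent.Helper80.kerChar (χ : G → ℂ) hχc :=
      (Cfsg.Agent.Helper80.mem_kerChar hχc y).mpr (hker y hy hyreg)
    rw [hK] at this
    exact Subgroup.mem_bot.mp this
  -- the centralizer is a `p`-group
  have hCp : IsPGroup p ↥(Subgroup.centralizer ((P : Subgroup G) : Set G)) := by
    intro g
    refine ⟨(orderOf (g : G)).factorization p, ?_⟩
    apply Subtype.ext
    rw [Subgroup.coe_pow, Subgroup.coe_one]
    apply hreg_triv _ (Subgroup.pow_mem _ g.2 _)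
    rw [orderOf_pow, Nat.gcd_eq_right (Nat.ordProj_dvd _ _)]
    exact Nat.not_dvd_ordCompl hp (orderOf_pos (g : G)).ne'
  -- `P` is abelian
  have hPle : (P : Subgroup G) ≤ Subgroup.centralizer ((P : Subgroup G) : Set G) := by
    haveI : IsCyclic ↥(P : Subgroup G) := isCyclic_of_prime_card hP
    intro a ha
    rw [Subgroup.mem_centralizer_iff]
    intro b hb
    have := mul_comm' (⟨b, hb⟩ : ↥(P : Subgroup G)) ⟨a, ha⟩
    exact congrArg Subtype.val this
  exact P.is_maximal' hCp hPle

end Cfsg.Agent.Helper79.B43c
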